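import Cfsg.Agent.Helper11.SchHS.Tab

set_option autoImplicit false
set_option linter.all false
set_option maxRecDepth 1000000
set_option maxHeartbeats 0

namespace Cfsg.Agent.Helper11.SchHS

theorem okR166 : OKR (166 * 4000) 4000 := by decide +kernel
theorem okR167 : OKR (167 * 4000) 4000 := by decide +kernel

end Cfsg.Agent.Helper11.SchHS
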