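import Cfsg.Agent.Helper11.SchHS.Tab

set_option autoImplicit false
set_option linter.all false
set_option maxRecDepth 1000000
set_option maxHeartbeats 0

namespace Cfsg.Agent.Helper11.SchHS

theorem okF0 : OKF [2, 2] 28684 215679576551081254765803037462965040573832223971481677559525997543424 := by decide +kernel
theorem okF1 : OKF [2, 2] 16355 215679576551093514730129964573831907350049424933793352954217199304704 := by decide +kernel
theorem okF2 : OKF [2, 0, 2, 0, 2, 0, 2, 0, 2, 0] 42591 1078397882755412403811361338576286128589728932832002797924788254277632 := by decide +kernel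
theorem okF3 : OKF [0, 0, 0, 2, 0, 2, 0, 0, 0, 0, 2, 0, 2, 1, 1, 2, 1, 1, 1, 2, 1, 1, 2, 0, 2, 0] 641017 2803834495164056311955439487026712304265921429916679502379286874554368 := by decide +kernel
theorem okF4 : OKF [2, 1, 2, 0, 2, 1, 2, 0, 2, 1, 2, 0] 617516 1294078282058766189197839302256937004247510819176945969613666532720640 := by decide +kernel
theorem okF5 : OKF [0, 0, 0, 2, 0, 2, 0, 0, 0, 0, 2, 0, 2, 1, 1, 2, 1, 1, 1, 2, 1, 1, 2, 0, 2, 0] 286219 2803834495164062441937968325980589427642110921530765078667271787249664 := by decide +kernel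
theorem okF6 : OKF [0, 0, 0, 2, 0, 2, 0, 0, 0, 0, 2, 0, 2, 1, 1, 2, 1, 1, 1, 2, 1, 1, 2, 0, 2, 0] 216436 2803833672411789911316562648938793623268889224461843699401023143018496 := by decide +kernel
theorem okF7 : OKF [0, 0, 0, 2, 0, 2, 0, 0, 0, 0, 2, 0, 2, 1, 1, 2, 1, 1, 1, 2, 1, 1, 2, 0, 2, 0] 19091 2803833672411771521370254945978520815376175404887471067584608921452544 := by decide +kernel

end Cfsg.Agent.Helper11.SchHS
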