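import Cfsg.Agent.Helper11.SchHS.Tab

set_option autoImplicit false
set_option linter.all false
set_option maxRecDepth 1000000
set_option maxHeartbeats 0

namespace Cfsg.Agent.Helper11.SchHS

theorem okT0 : OKT (0 * 20000) 20000 := by decide +kernel
theorem okT1 : OKT (1 * 20000) 20000 := by decide +kernel
theorem okT2 : OKT (2 * 20000) 20000 := by decide +kernel
theorem okT3 : OKT (3 * 20000) 20000 := by decide +kernel
theorem okT4 : OKT (4 * 20000) 20000 := by decide +kernel
theorem okT5 : OKT (5 * 20000) 20000 := by decide +kernel
theorem okT6 : OKT (6 * 20000) 20000 := by decide +kernel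
theorem okT7 : OKT (7 * 20000) 20000 := by decide +kernel
theorem okT8 : OKT (8 * 20000) 20000 := by decide +kernel
theorem okT9 : OKT (9 * 20000) 20000 := by decide +kernel
theorem okT10 : OKT (10 * 20000) 20000 := by decide +kernel
theorem okT11 : OKT (11 * 20000) 20000 := by decide +kernel
theorem okT12 : OKT (12 * 20000) 20000 := by decide +kernel
theorem okT13 : OKT (13 * 20000) 20000 := by decide +kernel
theorem okT14 : OKT (14 * 20000) 20000 := by decide +kernel
theorem okT15 : OKT (15 * 20000) 20000 := by decide +kernel
theorem okT16 : OKT (16 * 20000) 20000 := by decide +kernel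
theorem okT17 : OKT (17 * 20000) 20000 := by decide +kernel
theorem okT18 : OKT (18 * 20000) 20000 := by decide +kernel
theorem okT19 : OKT (19 * 20000) 20000 := by decide +kernel
theorem okT20 : OKT (20 * 20000) 20000 := by decide +kernel
theorem okT21 : OKT (21 * 20000) 20000 := by decide +kernel
theorem okT22 : OKT (22 * 20000) 20000 := by decide +kernel
theorem okT23 : OKT (23 * 20000) 20000 := by decide +kernel
theorem okT24 : OKT (24 * 20000) 20000 := by decide +kernel
theorem okT25 : OKT (25 * 20000) 20000 := by decide +kernel
theorem okT26 : OKT (26 * 20000) 20000 := by decide +kernel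
theorem okT27 : OKT (27 * 20000) 20000 := by decide +kernel
theorem okT28 : OKT (28 * 20000) 20000 := by decide +kernel
theorem okT29 : OKT (29 * 20000) 20000 := by decide +kernel
theorem okT30 : OKT (30 * 20000) 20000 := by decide +kernel
theorem okT31 : OKT (31 * 20000) 20000 := by decide +kernel
theorem okT32 : OKT (32 * 20000) 20000 := by decide +kernel
theorem okT33 : OKT (33 * 20000) 20000 := by decide +kernel
theorem okT34 : OKT (34 * 20000) 20000 := by decide +kernel
theorem okT35 : OKT (35 * 20000) 20000 := by decide +kernel
theorem okT36 : OKT (36 * 20000) 20000 := by decide +kernel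
theorem okT37 : OKT (37 * 20000) 20000 := by decide +kernel
theorem okT38 : OKT (38 * 20000) 20000 := by decide +kernel
theorem okT39 : OKT (39 * 20000) 20000 := by decide +kernel
theorem okT40 : OKT (40 * 20000) 20000 := by decide +kernel
theorem okT41 : OKT (41 * 20000) 20000 := by decide +kernel
theorem okT42 : OKT (42 * 20000) 20000 := by decide +kernel
theorem okT43 : OKT (43 * 20000) 20000 := by decide +kernel
theorem okT44 : OKT (44 * 20000) 20000 := by decide +kernel
theorem okT45 : OKT (45 * 20000) 20000 := by decide +kernel
theorem okT46 : OKT (46 * 20000) 20000 := by decide +kernel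
theorem okT47 : OKT (47 * 20000) 20000 := by decide +kernel
theorem okT48 : OKT (48 * 20000) 20000 := by decide +kernel
theorem okT49 : OKT (49 * 20000) 20000 := by decide +kernel
theorem okT50 : OKT (50 * 20000) 20000 := by decide +kernel
theorem okT51 : OKT (51 * 20000) 20000 := by decide +kernel
theorem okT52 : OKT (52 * 20000) 20000 := by decide +kernel
theorem okT53 : OKT (53 * 20000) 20000 := by decide +kernel
theorem okT54 : OKT (54 * 20000) 20000 := by decide +kernel
theorem okT55 : OKT (55 * 20000) 20000 := by decide +kernel
theorem okT56 : OKT (56 * 20000) 20000 := by decide +kernel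
theorem okT57 : OKT (57 * 20000) 20000 := by decide +kernel
theorem okT58 : OKT (58 * 20000) 20000 := by decide +kernel
theorem okT59 : OKT (59 * 20000) 20000 := by decide +kernel
theorem okT60 : OKT (60 * 20000) 20000 := by decide +kernel
theorem okT61 : OKT (61 * 20000) 20000 := by decide +kernel
theorem okT62 : OKT (62 * 20000) 20000 := by decide +kernel
theorem okT63 : OKT (63 * 20000) 20000 := by decide +kernel
theorem okT64 : OKT (64 * 20000) 20000 := by decide +kernel
theorem okT65 : OKT (65 * 20000) 20000 := by decide +kernel
theorem okT66 : OKT (66 * 20000) 20000 := by decide +kernel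
theorem okT67 : OKT (67 * 20000) 20000 := by decide +kernel
theorem okT68 : OKT (68 * 20000) 20000 := by decide +kernel
theorem okT69 : OKT (69 * 20000) 20000 := by decide +kernel
theorem okT70 : OKT (70 * 20000) 20000 := by decide +kernel
theorem okT71 : OKT (71 * 20000) 20000 := by decide +kernel
theorem okT72 : OKT (72 * 20000) 20000 := by decide +kernel
theorem okT73 : OKT (73 * 20000) 20000 := by decide +kernel
theorem okT74 : OKT (74 * 20000) 20000 := by decide +kernel
theorem okT75 : OKT (75 * 20000) 20000 := by decide +kernel
theorem okT76 : OKT (76 * 20000) 20000 := by decide +kernel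
theorem okT77 : OKT (77 * 20000) 20000 := by decide +kernel
theorem okT78 : OKT (78 * 20000) 20000 := by decide +kernel
theorem okT79 : OKT (79 * 20000) 20000 := by decide +kernel
theorem okT80 : OKT (80 * 20000) 20000 := by decide +kernel
theorem okT81 : OKT (81 * 20000) 20000 := by decide +kernel
theorem okT82 : OKT (82 * 20000) 20000 := by decide +kernel
theorem okT83 : OKT (83 * 20000) 20000 := by decide +kernel
theorem okT84 : OKT (84 * 20000) 20000 := by decide +kernel
theorem okT85 : OKT (85 * 20000) 20000 := by decide +kernel
theorem okT86 : OKT (86 * 20000) 20000 := by decide +kernel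
theorem okT87 : OKT (87 * 20000) 20000 := by decide +kernel
theorem okT88 : OKT (88 * 20000) 20000 := by decide +kernel
theorem okT89 : OKT (89 * 20000) 20000 := by decide +kernel
theorem okT90 : OKT (90 * 20000) 20000 := by decide +kernel
theorem okT91 : OKT (91 * 20000) 20000 := by decide +kernel
theorem okT92 : OKT (92 * 20000) 20000 := by decide +kernel
theorem okT93 : OKT (93 * 20000) 20000 := by decide +kernel
theorem okT94 : OKT (94 * 20000) 20000 := by decide +kernel
theorem okT95 : OKT (95 * 20000) 20000 := by decide +kernel
theorem okT96 : OKT (96 * 20000) 20000 := by decide +kernel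
theorem okT97 : OKT (97 * 20000) 20000 := by decide +kernel
theorem okT98 : OKT (98 * 20000) 20000 := by decide +kernel
theorem okT99 : OKT (99 * 20000) 20000 := by decide +kernel
theorem okT100 : OKT (100 * 20000) 20000 := by decide +kernel
theorem okT101 : OKT (101 * 20000) 20000 := by decide +kernel
theorem okT102 : OKT (102 * 20000) 20000 := by decide +kernel
theorem okT103 : OKT (103 * 20000) 20000 := by decide +kernel
theorem okT104 : OKT (104 * 20000) 20000 := by decide +kernel
theorem okT105 : OKT (105 * 20000) 20000 := by decide +kernel
theorem okT106 : OKT (106 * 20000) 20000 := by decide +kernel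
theorem okT107 : OKT (107 * 20000) 20000 := by decide +kernel
theorem okT108 : OKT (108 * 20000) 20000 := by decide +kernel
theorem okT109 : OKT (109 * 20000) 20000 := by decide +kernel
theorem okT110 : OKT (110 * 20000) 20000 := by decide +kernel

end Cfsg.Agent.Helper11.SchHS
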