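import Cfsg.Agent.Helper19.TCR.LabDefs
import Cfsg.Agent.Helper11.SchHS.Col0P0
import Cfsg.Agent.Helper11.SchHS.Col0P1
import Cfsg.Agent.Helper11.SchHS.Col0P2
import Cfsg.Agent.Helper11.SchHS.Col0P3
import Cfsg.Agent.Helper11.SchHS.Col0P4
import Cfsg.Agent.Helper11.SchHS.Col0P5
import Cfsg.Agent.Helper11.SchHS.Col0P6
import Cfsg.Agent.Helper11.SchHS.Col0P7
import Cfsg.Agent.Helper11.SchHS.Col0P8
import Cfsg.Agent.Helper11.SchHS.Col0P9
import Cfsg.Agent.Helper11.SchHS.Col0P10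
import Cfsg.Agent.Helper11.SchHS.Col0P11
import Cfsg.Agent.Helper11.SchHS.Col0P12
import Cfsg.Agent.Helper11.SchHS.Col0P13
import Cfsg.Agent.Helper11.SchHS.Col0P14
import Cfsg.Agent.Helper11.SchHS.Col0P15
import Cfsg.Agent.Helper11.SchHS.Col0P16
import Cfsg.Agent.Helper11.SchHS.Col0P17
import Cfsg.Agent.Helper11.SchHS.Col0P18
import Cfsg.Agent.Helper11.SchHS.Col0P19
import Cfsg.Agent.Helper11.SchHS.Col0P20
import Cfsg.Agent.Helper11.SchHS.Col0P21
import Cfsg.Agent.Helper11.SchHS.Col0P22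
import Cfsg.Agent.Helper11.SchHS.Col0P23
import Cfsg.Agent.Helper11.SchHS.Col0P24
import Cfsg.Agent.Helper11.SchHS.Col0P25
import Cfsg.Agent.Helper11.SchHS.Col0P26
import Cfsg.Agent.Helper11.SchHS.Col0P27
import Cfsg.Agent.Helper11.SchHS.Col0P28
import Cfsg.Agent.Helper11.SchHS.Col0P29
import Cfsg.Agent.Helper11.SchHS.Col0P30
import Cfsg.Agent.Helper11.SchHS.Col0P31
import Cfsg.Agent.Helper11.SchHS.Col0P32
import Cfsg.Agent.Helper11.SchHS.Col0P33
import Cfsg.Agent.Helper11.SchHS.Col0P34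
import Cfsg.Agent.Helper11.SchHS.Col0P35
import Cfsg.Agent.Helper11.SchHS.Col0P36
import Cfsg.Agent.Helper11.SchHS.Col0P37
import Cfsg.Agent.Helper11.SchHS.Col0P38
import Cfsg.Agent.Helper11.SchHS.Col0P39
import Cfsg.Agent.Helper11.SchHS.Col0P40
import Cfsg.Agent.Helper11.SchHS.Col0P41
import Cfsg.Agent.Helper11.SchHS.Col0P42
import Cfsg.Agent.Helper11.SchHS.Col0P43
import Cfsg.Agent.Helper11.SchHS.Col0P44
import Cfsg.Agent.Helper11.SchHS.Col0P45
import Cfsg.Agent.Helper11.SchHS.Col0P46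
import Cfsg.Agent.Helper11.SchHS.Col0P47
import Cfsg.Agent.Helper11.SchHS.Col0P48
import Cfsg.Agent.Helper11.SchHS.Col0P49
import Cfsg.Agent.Helper11.SchHS.Col0P50
import Cfsg.Agent.Helper11.SchHS.Col0P51
import Cfsg.Agent.Helper11.SchHS.Col0P52
import Cfsg.Agent.Helper11.SchHS.Col0P53
import Cfsg.Agent.Helper11.SchHS.Col0P54
import Cfsg.Agent.Helper11.SchHS.Col0P55
import Cfsg.Agent.Helper11.SchHS.Col0P56
import Cfsg.Agent.Helper11.SchHS.Col0P57
import Cfsg.Agent.Helper11.SchHS.Col0P58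
import Cfsg.Agent.Helper11.SchHS.Col0P59
import Cfsg.Agent.Helper11.SchHS.Col0P60
import Cfsg.Agent.Helper11.SchHS.Col0P61
import Cfsg.Agent.Helper11.SchHS.Col0P62
import Cfsg.Agent.Helper11.SchHS.Col0P63

set_option autoImplicit false
set_option linter.all false
set_option maxRecDepth 1000000
set_option maxHeartbeats 0

namespace Cfsg.Agent.Helper11.SchHS

open Cfsg.Agent.Helper19.TCS Cfsg.Agent.Helper19.TCL

noncomputable def col0 : Tr Nat := (.nd (.nd (.nd col0_p0 col0_p1 col0_p2 col0_p3) (.nd col0_p4 col0_p5 col0_p6 col0_p7) (.nd col0_p8 col0_p9 col0_p10 col0_p11) (.nd col0_p12 col0_p13 col0_p14 col0_p15)) (.nd (.nd col0_p16 col0_p17 col0_p18 col0_p19) (.nd col0_p20 col0_p21 col0_p22 col0_p23) (.nd col0_p24 col0_p25 col0_p26 col0_p27) (.nd col0_p28 col0_p29 col0_p30 col0_p31)) (.nd (.nd col0_p32 col0_p33 col0_p34 col0_p35) (.nd col0_p36 col0_p37 col0_p38 col0_p39) (.nd col0_p40 col0_p41 col0_p42 col0_p43)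 (.nd col0_p44 col0_p45 col0_p46 col0_p47)) (.nd (.nd col0_p48 col0_p49 col0_p50 col0_p51) (.nd col0_p52 col0_p53 col0_p54 col0_p55) (.nd col0_p56 col0_p57 col0_p58 col0_p59) (.nd col0_p60 col0_p61 col0_p62 col0_p63)))

end Cfsg.Agent.Helper11.SchHS
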