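import Mathlib
import Cfsg.Agent.Helper22.HSK

/-! Two generators `x` (order 20) and `t` (an involution) of helper22's permutation model `K` of the
Higman–Sims group on 100 points, as packed tables, with the straight line programs showing that they
generate it: `x = z u²`, `t = g z g⁻¹`, and back `z = w(x,t)`, `u = (z x)⁴`. (generated) -/

set_option autoImplicit false
set_option linter.all false
set_option maxRecDepth 100000
set_option maxHeartbeats 0

namespace Cfsg.Agent.Helper11.SchHS

open Cfsg.Agent.Helper22.PermPack Cfsg.Agent.Helper22.HSKData Cfsg.Agent.Helper22.HSK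

/-- the table of `x = z u²` -/
def hsX : ℕ := 0x4309c4c0688e182c6618a26e609d88da5b524c530b615f106b6268e10336f3e90a0a2d3e5539b463992c57486c7ad7c3cab2be824badea3a1f806402222e0478402ceb168be36725eaa34b8f007f552d38c814cf8aeda02
/-- the table of `x⁻¹` -/
def hsXi : ℕ := 0x29262225d0539d8e5959794bc52510ca2a90862160a2b093f601c1d3b38aaa0170089b0492b614d4a80126d674b5439e3466402be73344a86f7b1867636a5d703ed5c2b6dd3daf3cf9a46d98a1996231e5b20c9cbe0218c
/-- the table of the involution `t` -/
def hsT : ℕ := 0x5ce53e03906e983e90bd88cca82c89399d56d4934c4528e9e775e1535b16f306ea4cbc8ec71347f3d5b8a359d40558e1d46abdf28c3352da472d0a0b7224df3669edcb21880516482150e0868c26284831e58a111038080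

/-- `x`, `x⁻¹`, `t` from `z`, `u` -/
def slp1 : List (ℕ × List ℕ) := [(0x508581f449d331465412d3058a0e587158b375d4809ae57dc7082ae287122bda8fab3a48ee361bb1e525b404ed81541b08bc155035ccc60f79064909e5e76009665c81b8c8927f7db86b678989a30a9b432d43d28130d32, [1, 1, 1, 1, 1, 1]), (0x72a213e80c02896a093969cde68794bd2441886daaa6b5318a12f1466801019ac70715bc49ed5b0ccf54062cdb13ec95a328886df91670362369fdd20f1749a304ba5113c247c6a4e93141ae57c31618f754a6017669c2c, [0, 2, 2, 0, 2, 2, 2, 0, 2]), (0x27145a550ed00d9a8933718fdc349618dc72d5ea858d4ce2729105501384d5f4381c9e061f181ac92dc36cb985ea4765005b30962b324c5158aa7415ed48be620a0483361e2b20e919f10f54cf643ee17a83ae956768242, [1, 0, 1, 1, 1, 0, 1, 1, 0]), (hsT, [3, 0, 4]), (hsX, [0, 1, 1]), (hsXi, [2, 2, 0])]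

/-- the new generators -/
def gens3 : List ℕ := [hsX, hsXi, hsT]

/-- `z` and `u` from `x`, `x⁻¹`, `t` -/
def slp2 : List (ℕ × List ℕ) := [(zT, [1, 2, 1, 2, 0, 0, 0, 2, 1, 1, 1, 2, 0, 2, 0]), (0xad0a3d2294489848980e13b02093186e827c0c4cd90e1b1575b2910a86befa81af81db788dab62b6082cbb324384379809173659656dc43a1e4a2393952e043ec82ce1cf59c52f56d4676fcf345d252d354814cfc668002, [3, 0]), (uT, [4, 4, 4, 4])]

theorem slp1_okK : slpOK 100 7 zu slp1 = true := by decide +kernel
theorem gens3_goodK : gens3.all (goodB 100 7) = true := by decide +kernel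
theorem slp2_okK : slpOK 100 7 gens3 slp2 = true := by decide +kernel
theorem zu_subK' : (zu.all fun y => gens3.contains y || slp2.any fun e => e.1 == y) = true := by decide +kernel
theorem gens3_subK' : (gens3.all fun y => zu.contains y || slp1.any fun e => e.1 == y) = true := by decide +kernel
/-- `x x⁻¹ = 1` and `t t = 1` on the tables -/
theorem inv_okK : (allN 100 fun i => Nat.beq (slot 7 hsX (slot 7 hsXi i)) i && Nat.beq (slot 7 hsT (slot 7 hsT i)) i) = true := by
  decide +kernel

end Cfsg.Agent.Helper11.SchHS
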