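import Mathlib
import Cfsg.Agent.Helper19.TCR.Lab
import Cfsg.Agent.Helper11.SchHS.Chk0
import Cfsg.Agent.Helper11.SchHS.Chk1
import Cfsg.Agent.Helper11.SchHS.Chk2
import Cfsg.Agent.Helper11.SchHS.Chk3
import Cfsg.Agent.Helper11.SchHS.Chk4
import Cfsg.Agent.Helper11.SchHS.Chk5
import Cfsg.Agent.Helper11.SchHS.Chk6
import Cfsg.Agent.Helper11.SchHS.Chk7
import Cfsg.Agent.Helper11.SchHS.Chk8
import Cfsg.Agent.Helper11.SchHS.Chk9
import Cfsg.Agent.Helper11.SchHS.Chk10
import Cfsg.Agent.Helper11.SchHS.Chk11
import Cfsg.Agent.Helper11.SchHS.Chk12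
import Cfsg.Agent.Helper11.SchHS.Chk13
import Cfsg.Agent.Helper11.SchHS.Chk14
import Cfsg.Agent.Helper11.SchHS.Chk15
import Cfsg.Agent.Helper11.SchHS.Chk16
import Cfsg.Agent.Helper11.SchHS.Chk17
import Cfsg.Agent.Helper11.SchHS.Chk18
import Cfsg.Agent.Helper11.SchHS.Chk19
import Cfsg.Agent.Helper11.SchHS.Chk20
import Cfsg.Agent.Helper11.SchHS.Chk21
import Cfsg.Agent.Helper11.SchHS.Chk22
import Cfsg.Agent.Helper11.SchHS.Chk23
import Cfsg.Agent.Helper11.SchHS.Chk24
import Cfsg.Agent.Helper11.SchHS.Chk25
import Cfsg.Agent.Helper11.SchHS.Chk26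
import Cfsg.Agent.Helper11.SchHS.Chk27
import Cfsg.Agent.Helper11.SchHS.Chk28
import Cfsg.Agent.Helper11.SchHS.Chk29
import Cfsg.Agent.Helper11.SchHS.Chk30
import Cfsg.Agent.Helper11.SchHS.Chk31
import Cfsg.Agent.Helper11.SchHS.Chk32
import Cfsg.Agent.Helper11.SchHS.Chk33
import Cfsg.Agent.Helper11.SchHS.Chk34
import Cfsg.Agent.Helper11.SchHS.Chk35
import Cfsg.Agent.Helper11.SchHS.Chk36
import Cfsg.Agent.Helper11.SchHS.Chk37
import Cfsg.Agent.Helper11.SchHS.Chk38
import Cfsg.Agent.Helper11.SchHS.Chk39
import Cfsg.Agent.Helper11.SchHS.Chk40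
import Cfsg.Agent.Helper11.SchHS.Chk41
import Cfsg.Agent.Helper11.SchHS.Chk42
import Cfsg.Agent.Helper11.SchHS.Chk43
import Cfsg.Agent.Helper11.SchHS.Chk44
import Cfsg.Agent.Helper11.SchHS.Chk45
import Cfsg.Agent.Helper11.SchHS.Chk46
import Cfsg.Agent.Helper11.SchHS.Chk47
import Cfsg.Agent.Helper11.SchHS.Chk48
import Cfsg.Agent.Helper11.SchHS.Chk49
import Cfsg.Agent.Helper11.SchHS.Chk50
import Cfsg.Agent.Helper11.SchHS.Chk51
import Cfsg.Agent.Helper11.SchHS.Chk52
import Cfsg.Agent.Helper11.SchHS.Chk53
import Cfsg.Agent.Helper11.SchHS.Chk54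
import Cfsg.Agent.Helper11.SchHS.Chk55
import Cfsg.Agent.Helper11.SchHS.Chk56
import Cfsg.Agent.Helper11.SchHS.Chk57
import Cfsg.Agent.Helper11.SchHS.Chk58
import Cfsg.Agent.Helper11.SchHS.Chk59
import Cfsg.Agent.Helper11.SchHS.Chk60
import Cfsg.Agent.Helper11.SchHS.Chk61
import Cfsg.Agent.Helper11.SchHS.Chk62
import Cfsg.Agent.Helper11.SchHS.Chk63
import Cfsg.Agent.Helper11.SchHS.Chk64
import Cfsg.Agent.Helper11.SchHS.Chk65
import Cfsg.Agent.Helper11.SchHS.Chk66
import Cfsg.Agent.Helper11.SchHS.Chk67
import Cfsg.Agent.Helper11.SchHS.Chk68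
import Cfsg.Agent.Helper11.SchHS.Chk69
import Cfsg.Agent.Helper11.SchHS.Chk70
import Cfsg.Agent.Helper11.SchHS.Chk71
import Cfsg.Agent.Helper11.SchHS.Chk72
import Cfsg.Agent.Helper11.SchHS.Chk73
import Cfsg.Agent.Helper11.SchHS.Chk74
import Cfsg.Agent.Helper11.SchHS.Chk75
import Cfsg.Agent.Helper11.SchHS.Chk76
import Cfsg.Agent.Helper11.SchHS.Chk77
import Cfsg.Agent.Helper11.SchHS.Chk78
import Cfsg.Agent.Helper11.SchHS.Chk79
import Cfsg.Agent.Helper11.SchHS.Chk80
import Cfsg.Agent.Helper11.SchHS.Chk81
import Cfsg.Agent.Helper11.SchHS.Chk82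
import Cfsg.Agent.Helper11.SchHS.Chk83
import Cfsg.Agent.Helper11.SchHS.Chk84
import Cfsg.Agent.Helper11.SchHS.Chk85
import Cfsg.Agent.Helper11.SchHS.Chk86
import Cfsg.Agent.Helper11.SchHS.Chk87
import Cfsg.Agent.Helper11.SchHS.Chk88
import Cfsg.Agent.Helper11.SchHS.Chk89
import Cfsg.Agent.Helper11.SchHS.Chk90
import Cfsg.Agent.Helper11.SchHS.Chk91
import Cfsg.Agent.Helper11.SchHS.Chk92
import Cfsg.Agent.Helper11.SchHS.Chk93
import Cfsg.Agent.Helper11.SchHS.Chk94
import Cfsg.Agent.Helper11.SchHS.Chk95
import Cfsg.Agent.Helper11.SchHS.Chk96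
import Cfsg.Agent.Helper11.SchHS.Chk97
import Cfsg.Agent.Helper11.SchHS.Chk98
import Cfsg.Agent.Helper11.SchHS.Chk99
import Cfsg.Agent.Helper11.SchHS.Chk100
import Cfsg.Agent.Helper11.SchHS.Chk101
import Cfsg.Agent.Helper11.SchHS.Chk102
import Cfsg.Agent.Helper11.SchHS.Chk103
import Cfsg.Agent.Helper11.SchHS.Chk104
import Cfsg.Agent.Helper11.SchHS.Chk105
import Cfsg.Agent.Helper11.SchHS.Chk106
import Cfsg.Agent.Helper11.SchHS.Chk107
import Cfsg.Agent.Helper11.SchHS.Chk108
import Cfsg.Agent.Helper11.SchHS.Chk109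
import Cfsg.Agent.Helper11.SchHS.Chk110
import Cfsg.Agent.Helper11.SchHS.Chk111
import Cfsg.Agent.Helper11.SchHS.Chk112
import Cfsg.Agent.Helper11.SchHS.Chk113
import Cfsg.Agent.Helper11.SchHS.Chk114
import Cfsg.Agent.Helper11.SchHS.Chk115
import Cfsg.Agent.Helper11.SchHS.Chk116
import Cfsg.Agent.Helper11.SchHS.Chk117
import Cfsg.Agent.Helper11.SchHS.Chk118
import Cfsg.Agent.Helper11.SchHS.Chk119
import Cfsg.Agent.Helper11.SchHS.Chk120
import Cfsg.Agent.Helper11.SchHS.Chk121
import Cfsg.Agent.Helper11.SchHS.Chk122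
import Cfsg.Agent.Helper11.SchHS.Chk123
import Cfsg.Agent.Helper11.SchHS.Chk124
import Cfsg.Agent.Helper11.SchHS.Chk125
import Cfsg.Agent.Helper11.SchHS.Chk126
import Cfsg.Agent.Helper11.SchHS.Chk127
import Cfsg.Agent.Helper11.SchHS.Chk128
import Cfsg.Agent.Helper11.SchHS.Chk129
import Cfsg.Agent.Helper11.SchHS.Chk130
import Cfsg.Agent.Helper11.SchHS.Chk131
import Cfsg.Agent.Helper11.SchHS.Chk132
import Cfsg.Agent.Helper11.SchHS.Chk133
import Cfsg.Agent.Helper11.SchHS.Chk134
import Cfsg.Agent.Helper11.SchHS.Chk135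
import Cfsg.Agent.Helper11.SchHS.Chk136
import Cfsg.Agent.Helper11.SchHS.Chk137
import Cfsg.Agent.Helper11.SchHS.Chk138
import Cfsg.Agent.Helper11.SchHS.Chk139
import Cfsg.Agent.Helper11.SchHS.Chk140
import Cfsg.Agent.Helper11.SchHS.Chk141
import Cfsg.Agent.Helper11.SchHS.Chk142
import Cfsg.Agent.Helper11.SchHS.Chk143
import Cfsg.Agent.Helper11.SchHS.Chk144
import Cfsg.Agent.Helper11.SchHS.Chk145
import Cfsg.Agent.Helper11.SchHS.Chk146
import Cfsg.Agent.Helper11.SchHS.Chk147
import Cfsg.Agent.Helper11.SchHS.Chk148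
import Cfsg.Agent.Helper11.SchHS.Chk149
import Cfsg.Agent.Helper11.SchHS.Chk150
import Cfsg.Agent.Helper11.SchHS.Chk151
import Cfsg.Agent.Helper11.SchHS.Chk152
import Cfsg.Agent.Helper11.SchHS.Chk153
import Cfsg.Agent.Helper11.SchHS.Chk154
import Cfsg.Agent.Helper11.SchHS.Chk155
import Cfsg.Agent.Helper11.SchHS.Chk156
import Cfsg.Agent.Helper11.SchHS.Chk157
import Cfsg.Agent.Helper11.SchHS.Chk158
import Cfsg.Agent.Helper11.SchHS.Chk159
import Cfsg.Agent.Helper11.SchHS.Chk160
import Cfsg.Agent.Helper11.SchHS.Chk161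
import Cfsg.Agent.Helper11.SchHS.Chk162
import Cfsg.Agent.Helper11.SchHS.Chk163
import Cfsg.Agent.Helper11.SchHS.Chk164
import Cfsg.Agent.Helper11.SchHS.Chk165
import Cfsg.Agent.Helper11.SchHS.Chk166
import Cfsg.Agent.Helper11.SchHS.Chk167
import Cfsg.Agent.Helper11.SchHS.Chk168
import Cfsg.Agent.Helper11.SchHS.Chk169
import Cfsg.Agent.Helper11.SchHS.Chk170
import Cfsg.Agent.Helper11.SchHS.Chk171
import Cfsg.Agent.Helper11.SchHS.Chk172
import Cfsg.Agent.Helper11.SchHS.Chk173
import Cfsg.Agent.Helper11.SchHS.Chk174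
import Cfsg.Agent.Helper11.SchHS.Chk175
import Cfsg.Agent.Helper11.SchHS.Chk176
import Cfsg.Agent.Helper11.SchHS.Chk177
import Cfsg.Agent.Helper11.SchHS.Chk178
import Cfsg.Agent.Helper11.SchHS.Chk179
import Cfsg.Agent.Helper11.SchHS.Chk180
import Cfsg.Agent.Helper11.SchHS.Chk181
import Cfsg.Agent.Helper11.SchHS.Chk182
import Cfsg.Agent.Helper11.SchHS.Chk183
import Cfsg.Agent.Helper11.SchHS.Chk184
import Cfsg.Agent.Helper11.SchHS.Chk185
import Cfsg.Agent.Helper11.SchHS.Chk186
import Cfsg.Agent.Helper11.SchHS.Chk187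
import Cfsg.Agent.Helper11.SchHS.Chk188
import Cfsg.Agent.Helper11.SchHS.Chk189
import Cfsg.Agent.Helper11.SchHS.Chk190
import Cfsg.Agent.Helper11.SchHS.Chk191
import Cfsg.Agent.Helper11.SchHS.Chk192
import Cfsg.Agent.Helper11.SchHS.Chk193
import Cfsg.Agent.Helper11.SchHS.Chk194
import Cfsg.Agent.Helper11.SchHS.Chk195
import Cfsg.Agent.Helper11.SchHS.Chk196
import Cfsg.Agent.Helper11.SchHS.Chk197
import Cfsg.Agent.Helper11.SchHS.Chk198
import Cfsg.Agent.Helper11.SchHS.Chk199
import Cfsg.Agent.Helper11.SchHS.Chk200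
import Cfsg.Agent.Helper11.SchHS.Chk201
import Cfsg.Agent.Helper11.SchHS.Chk202
import Cfsg.Agent.Helper11.SchHS.Chk203
import Cfsg.Agent.Helper11.SchHS.Chk204
import Cfsg.Agent.Helper11.SchHS.Chk205
import Cfsg.Agent.Helper11.SchHS.Chk206
import Cfsg.Agent.Helper11.SchHS.Chk207
import Cfsg.Agent.Helper11.SchHS.Chk208
import Cfsg.Agent.Helper11.SchHS.Chk209
import Cfsg.Agent.Helper11.SchHS.Chk210
import Cfsg.Agent.Helper11.SchHS.Chk211
import Cfsg.Agent.Helper11.SchHS.Chk212
import Cfsg.Agent.Helper11.SchHS.Chk213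
import Cfsg.Agent.Helper11.SchHS.Chk214
import Cfsg.Agent.Helper11.SchHS.Chk215
import Cfsg.Agent.Helper11.SchHS.Chk216
import Cfsg.Agent.Helper11.SchHS.Chk217
import Cfsg.Agent.Helper11.SchHS.Chk218
import Cfsg.Agent.Helper11.SchHS.Chk219
import Cfsg.Agent.Helper11.SchHS.Chk220
import Cfsg.Agent.Helper11.SchHS.Chk221
import Cfsg.Agent.Helper11.SchHS.Chk222
import Cfsg.Agent.Helper11.SchHS.Chk223
import Cfsg.Agent.Helper11.SchHS.Chk224
import Cfsg.Agent.Helper11.SchHS.Chk225
import Cfsg.Agent.Helper11.SchHS.Chk226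
import Cfsg.Agent.Helper11.SchHS.Chk227
import Cfsg.Agent.Helper11.SchHS.Chk228
import Cfsg.Agent.Helper11.SchHS.Chk229
import Cfsg.Agent.Helper11.SchHS.Chk230
import Cfsg.Agent.Helper11.SchHS.Chk231
import Cfsg.Agent.Helper11.SchHS.Chk232
import Cfsg.Agent.Helper11.SchHS.Chk233
import Cfsg.Agent.Helper11.SchHS.Chk234
import Cfsg.Agent.Helper11.SchHS.Chk235
import Cfsg.Agent.Helper11.SchHS.Chk236
import Cfsg.Agent.Helper11.SchHS.Chk237
import Cfsg.Agent.Helper11.SchHS.Chk238
import Cfsg.Agent.Helper11.SchHS.Chk239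
import Cfsg.Agent.Helper11.SchHS.Chk240
import Cfsg.Agent.Helper11.SchHS.Chk241
import Cfsg.Agent.Helper11.SchHS.Chk242
import Cfsg.Agent.Helper11.SchHS.Chk243
import Cfsg.Agent.Helper11.SchHS.Chk244
import Cfsg.Agent.Helper11.SchHS.Chk245
import Cfsg.Agent.Helper11.SchHS.Chk246
import Cfsg.Agent.Helper11.SchHS.Chk247
import Cfsg.Agent.Helper11.SchHS.Chk248
import Cfsg.Agent.Helper11.SchHS.Chk249
import Cfsg.Agent.Helper11.SchHS.Chk250
import Cfsg.Agent.Helper11.SchHS.Chk251
import Cfsg.Agent.Helper11.SchHS.Chk252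
import Cfsg.Agent.Helper11.SchHS.Chk253
import Cfsg.Agent.Helper11.SchHS.Chk254
import Cfsg.Agent.Helper11.SchHS.Chk255
import Cfsg.Agent.Helper11.SchHS.Chk256
import Cfsg.Agent.Helper11.SchHS.Chk257
import Cfsg.Agent.Helper11.SchHS.Chk258
import Cfsg.Agent.Helper11.SchHS.Chk259
import Cfsg.Agent.Helper11.SchHS.Chk260
import Cfsg.Agent.Helper11.SchHS.Chk261
import Cfsg.Agent.Helper11.SchHS.Chk262
import Cfsg.Agent.Helper11.SchHS.Chk263
import Cfsg.Agent.Helper11.SchHS.Chk264
import Cfsg.Agent.Helper11.SchHS.Chk265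
import Cfsg.Agent.Helper11.SchHS.Chk266
import Cfsg.Agent.Helper11.SchHS.Chk267
import Cfsg.Agent.Helper11.SchHS.Chk268
import Cfsg.Agent.Helper11.SchHS.Chk269
import Cfsg.Agent.Helper11.SchHS.Chk270
import Cfsg.Agent.Helper11.SchHS.Chk271
import Cfsg.Agent.Helper11.SchHS.Chk272
import Cfsg.Agent.Helper11.SchHS.Chk273
import Cfsg.Agent.Helper11.SchHS.Chk274
import Cfsg.Agent.Helper11.SchHS.Chk275
import Cfsg.Agent.Helper11.SchHS.Chk276
import Cfsg.Agent.Helper11.SchHS.Chk277
import Cfsg.Agent.Helper11.SchHS.ChkT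
import Cfsg.Agent.Helper11.SchHS.ChkF

set_option autoImplicit false
set_option linter.all false
set_option maxRecDepth 1000000
set_option maxHeartbeats 0

namespace Cfsg.Agent.Helper11.SchHS

open Cfsg.Agent.Helper19.TCS Cfsg.Agent.Helper19.TCL

theorem okR_all : ∀ p, p < 555 → OKR (p * 4000) 4000 := by
  intro p hp
  interval_cases p
  · exact okR0
  · exact okR1
  · exact okR2
  · exact okR3
  · exact okR4
  · exact okR5
  · exact okR6
  · exact okR7
  · exact okR8
  · exact okR9
  · exact okR10
  · exact okR11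
  · exact okR12
  · exact okR13
  · exact okR14
  · exact okR15
  · exact okR16
  · exact okR17
  · exact okR18
  · exact okR19
  · exact okR20
  · exact okR21
  · exact okR22
  · exact okR23
  · exact okR24
  · exact okR25
  · exact okR26
  · exact okR27
  · exact okR28
  · exact okR29
  · exact okR30
  · exact okR31
  · exact okR32
  · exact okR33
  · exact okR34
  · exact okR35
  · exact okR36
  · exact okR37
  · exact okR38
  · exact okR39
  · exact okR40
  · exact okR41
  · exact okR42
  · exact okR43
  · exact okR44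
  · exact okR45
  · exact okR46
  · exact okR47
  · exact okR48
  · exact okR49
  · exact okR50
  · exact okR51
  · exact okR52
  · exact okR53
  · exact okR54
  · exact okR55
  · exact okR56
  · exact okR57
  · exact okR58
  · exact okR59
  · exact okR60
  · exact okR61
  · exact okR62
  · exact okR63
  · exact okR64
  · exact okR65
  · exact okR66
  · exact okR67
  · exact okR68
  · exact okR69
  · exact okR70
  · exact okR71
  · exact okR72
  · exact okR73
  · exact okR74
  · exact okR75
  · exact okR76
  · exact okR77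
  · exact okR78
  · exact okR79
  · exact okR80
  · exact okR81
  · exact okR82
  · exact okR83
  · exact okR84
  · exact okR85
  · exact okR86
  · exact okR87
  · exact okR88
  · exact okR89
  · exact okR90
  · exact okR91
  · exact okR92
  · exact okR93
  · exact okR94
  · exact okR95
  · exact okR96
  · exact okR97
  · exact okR98
  · exact okR99
  · exact okR100
  · exact okR101
  · exact okR102
  · exact okR103
  · exact okR104
  · exact okR105
  · exact okR106
  · exact okR107
  · exact okR108
  · exact okR109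
  · exact okR110
  · exact okR111
  · exact okR112
  · exact okR113
  · exact okR114
  · exact okR115
  · exact okR116
  · exact okR117
  · exact okR118
  · exact okR119
  · exact okR120
  · exact okR121
  · exact okR122
  · exact okR123
  · exact okR124
  · exact okR125
  · exact okR126
  · exact okR127
  · exact okR128
  · exact okR129
  · exact okR130
  · exact okR131
  · exact okR132
  · exact okR133
  · exact okR134
  · exact okR135
  · exact okR136
  · exact okR137
  · exact okR138
  · exact okR139
  · exact okR140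
  · exact okR141
  · exact okR142
  · exact okR143
  · exact okR144
  · exact okR145
  · exact okR146
  · exact okR147
  · exact okR148
  · exact okR149
  · exact okR150
  · exact okR151
  · exact okR152
  · exact okR153
  · exact okR154
  · exact okR155
  · exact okR156
  · exact okR157
  · exact okR158
  · exact okR159
  · exact okR160
  · exact okR161
  · exact okR162
  · exact okR163
  · exact okR164
  · exact okR165
  · exact okR166
  · exact okR167
  · exact okR168
  · exact okR169
  · exact okR170
  · exact okR171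
  · exact okR172
  · exact okR173
  · exact okR174
  · exact okR175
  · exact okR176
  · exact okR177
  · exact okR178
  · exact okR179
  · exact okR180
  · exact okR181
  · exact okR182
  · exact okR183
  · exact okR184
  · exact okR185
  · exact okR186
  · exact okR187
  · exact okR188
  · exact okR189
  · exact okR190
  · exact okR191
  · exact okR192
  · exact okR193
  · exact okR194
  · exact okR195
  · exact okR196
  · exact okR197
  · exact okR198
  · exact okR199
  · exact okR200
  · exact okR201
  · exact okR202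
  · exact okR203
  · exact okR204
  · exact okR205
  · exact okR206
  · exact okR207
  · exact okR208
  · exact okR209
  · exact okR210
  · exact okR211
  · exact okR212
  · exact okR213
  · exact okR214
  · exact okR215
  · exact okR216
  · exact okR217
  · exact okR218
  · exact okR219
  · exact okR220
  · exact okR221
  · exact okR222
  · exact okR223
  · exact okR224
  · exact okR225
  · exact okR226
  · exact okR227
  · exact okR228
  · exact okR229
  · exact okR230
  · exact okR231
  · exact okR232
  · exact okR233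
  · exact okR234
  · exact okR235
  · exact okR236
  · exact okR237
  · exact okR238
  · exact okR239
  · exact okR240
  · exact okR241
  · exact okR242
  · exact okR243
  · exact okR244
  · exact okR245
  · exact okR246
  · exact okR247
  · exact okR248
  · exact okR249
  · exact okR250
  · exact okR251
  · exact okR252
  · exact okR253
  · exact okR254
  · exact okR255
  · exact okR256
  · exact okR257
  · exact okR258
  · exact okR259
  · exact okR260
  · exact okR261
  · exact okR262
  · exact okR263
  · exact okR264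
  · exact okR265
  · exact okR266
  · exact okR267
  · exact okR268
  · exact okR269
  · exact okR270
  · exact okR271
  · exact okR272
  · exact okR273
  · exact okR274
  · exact okR275
  · exact okR276
  · exact okR277
  · exact okR278
  · exact okR279
  · exact okR280
  · exact okR281
  · exact okR282
  · exact okR283
  · exact okR284
  · exact okR285
  · exact okR286
  · exact okR287
  · exact okR288
  · exact okR289
  · exact okR290
  · exact okR291
  · exact okR292
  · exact okR293
  · exact okR294
  · exact okR295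
  · exact okR296
  · exact okR297
  · exact okR298
  · exact okR299
  · exact okR300
  · exact okR301
  · exact okR302
  · exact okR303
  · exact okR304
  · exact okR305
  · exact okR306
  · exact okR307
  · exact okR308
  · exact okR309
  · exact okR310
  · exact okR311
  · exact okR312
  · exact okR313
  · exact okR314
  · exact okR315
  · exact okR316
  · exact okR317
  · exact okR318
  · exact okR319
  · exact okR320
  · exact okR321
  · exact okR322
  · exact okR323
  · exact okR324
  · exact okR325
  · exact okR326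
  · exact okR327
  · exact okR328
  · exact okR329
  · exact okR330
  · exact okR331
  · exact okR332
  · exact okR333
  · exact okR334
  · exact okR335
  · exact okR336
  · exact okR337
  · exact okR338
  · exact okR339
  · exact okR340
  · exact okR341
  · exact okR342
  · exact okR343
  · exact okR344
  · exact okR345
  · exact okR346
  · exact okR347
  · exact okR348
  · exact okR349
  · exact okR350
  · exact okR351
  · exact okR352
  · exact okR353
  · exact okR354
  · exact okR355
  · exact okR356
  · exact okR357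
  · exact okR358
  · exact okR359
  · exact okR360
  · exact okR361
  · exact okR362
  · exact okR363
  · exact okR364
  · exact okR365
  · exact okR366
  · exact okR367
  · exact okR368
  · exact okR369
  · exact okR370
  · exact okR371
  · exact okR372
  · exact okR373
  · exact okR374
  · exact okR375
  · exact okR376
  · exact okR377
  · exact okR378
  · exact okR379
  · exact okR380
  · exact okR381
  · exact okR382
  · exact okR383
  · exact okR384
  · exact okR385
  · exact okR386
  · exact okR387
  · exact okR388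
  · exact okR389
  · exact okR390
  · exact okR391
  · exact okR392
  · exact okR393
  · exact okR394
  · exact okR395
  · exact okR396
  · exact okR397
  · exact okR398
  · exact okR399
  · exact okR400
  · exact okR401
  · exact okR402
  · exact okR403
  · exact okR404
  · exact okR405
  · exact okR406
  · exact okR407
  · exact okR408
  · exact okR409
  · exact okR410
  · exact okR411
  · exact okR412
  · exact okR413
  · exact okR414
  · exact okR415
  · exact okR416
  · exact okR417
  · exact okR418
  · exact okR419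
  · exact okR420
  · exact okR421
  · exact okR422
  · exact okR423
  · exact okR424
  · exact okR425
  · exact okR426
  · exact okR427
  · exact okR428
  · exact okR429
  · exact okR430
  · exact okR431
  · exact okR432
  · exact okR433
  · exact okR434
  · exact okR435
  · exact okR436
  · exact okR437
  · exact okR438
  · exact okR439
  · exact okR440
  · exact okR441
  · exact okR442
  · exact okR443
  · exact okR444
  · exact okR445
  · exact okR446
  · exact okR447
  · exact okR448
  · exact okR449
  · exact okR450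
  · exact okR451
  · exact okR452
  · exact okR453
  · exact okR454
  · exact okR455
  · exact okR456
  · exact okR457
  · exact okR458
  · exact okR459
  · exact okR460
  · exact okR461
  · exact okR462
  · exact okR463
  · exact okR464
  · exact okR465
  · exact okR466
  · exact okR467
  · exact okR468
  · exact okR469
  · exact okR470
  · exact okR471
  · exact okR472
  · exact okR473
  · exact okR474
  · exact okR475
  · exact okR476
  · exact okR477
  · exact okR478
  · exact okR479
  · exact okR480
  · exact okR481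
  · exact okR482
  · exact okR483
  · exact okR484
  · exact okR485
  · exact okR486
  · exact okR487
  · exact okR488
  · exact okR489
  · exact okR490
  · exact okR491
  · exact okR492
  · exact okR493
  · exact okR494
  · exact okR495
  · exact okR496
  · exact okR497
  · exact okR498
  · exact okR499
  · exact okR500
  · exact okR501
  · exact okR502
  · exact okR503
  · exact okR504
  · exact okR505
  · exact okR506
  · exact okR507
  · exact okR508
  · exact okR509
  · exact okR510
  · exact okR511
  · exact okR512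
  · exact okR513
  · exact okR514
  · exact okR515
  · exact okR516
  · exact okR517
  · exact okR518
  · exact okR519
  · exact okR520
  · exact okR521
  · exact okR522
  · exact okR523
  · exact okR524
  · exact okR525
  · exact okR526
  · exact okR527
  · exact okR528
  · exact okR529
  · exact okR530
  · exact okR531
  · exact okR532
  · exact okR533
  · exact okR534
  · exact okR535
  · exact okR536
  · exact okR537
  · exact okR538
  · exact okR539
  · exact okR540
  · exact okR541
  · exact okR542
  · exact okR543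
  · exact okR544
  · exact okR545
  · exact okR546
  · exact okR547
  · exact okR548
  · exact okR549
  · exact okR550
  · exact okR551
  · exact okR552
  · exact okR553
  · exact okR554

theorem okT_all : ∀ p, p < 111 → OKT (p * 20000) 20000 := by
  intro p hp
  interval_cases p
  · exact okT0
  · exact okT1
  · exact okT2
  · exact okT3
  · exact okT4
  · exact okT5
  · exact okT6
  · exact okT7
  · exact okT8
  · exact okT9
  · exact okT10
  · exact okT11
  · exact okT12
  · exact okT13
  · exact okT14
  · exact okT15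
  · exact okT16
  · exact okT17
  · exact okT18
  · exact okT19
  · exact okT20
  · exact okT21
  · exact okT22
  · exact okT23
  · exact okT24
  · exact okT25
  · exact okT26
  · exact okT27
  · exact okT28
  · exact okT29
  · exact okT30
  · exact okT31
  · exact okT32
  · exact okT33
  · exact okT34
  · exact okT35
  · exact okT36
  · exact okT37
  · exact okT38
  · exact okT39
  · exact okT40
  · exact okT41
  · exact okT42
  · exact okT43
  · exact okT44
  · exact okT45
  · exact okT46
  · exact okT47
  · exact okT48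
  · exact okT49
  · exact okT50
  · exact okT51
  · exact okT52
  · exact okT53
  · exact okT54
  · exact okT55
  · exact okT56
  · exact okT57
  · exact okT58
  · exact okT59
  · exact okT60
  · exact okT61
  · exact okT62
  · exact okT63
  · exact okT64
  · exact okT65
  · exact okT66
  · exact okT67
  · exact okT68
  · exact okT69
  · exact okT70
  · exact okT71
  · exact okT72
  · exact okT73
  · exact okT74
  · exact okT75
  · exact okT76
  · exact okT77
  · exact okT78
  · exact okT79
  · exact okT80
  · exact okT81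
  · exact okT82
  · exact okT83
  · exact okT84
  · exact okT85
  · exact okT86
  · exact okT87
  · exact okT88
  · exact okT89
  · exact okT90
  · exact okT91
  · exact okT92
  · exact okT93
  · exact okT94
  · exact okT95
  · exact okT96
  · exact okT97
  · exact okT98
  · exact okT99
  · exact okT100
  · exact okT101
  · exact okT102
  · exact okT103
  · exact okT104
  · exact okT105
  · exact okT106
  · exact okT107
  · exact okT108
  · exact okT109
  · exact okT110

theorem okAll : ∀ i l, i < 2217600 → l < 4 → OKE i l := by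
  intro i l hi hl
  have hp : i / 4000 < 555 := by omega
  have h1 : i / 4000 * 4000 ≤ i := Nat.div_mul_le_self i 4000
  have h2 : i < i / 4000 * 4000 + 4000 := by omega
  exact okRowsL_spec (i / 4000 * 4000) 4000 (okR_all (i / 4000) hp) i h1 h2 hi l hl

theorem treeAll : ∀ j, 0 < j → j < 2217600 → parF j < j := by
  intro j h0 hj
  have hp : j / 20000 < 111 := by omega
  have h1 : j / 20000 * 20000 ≤ j := Nat.div_mul_le_self j 20000
  have h2 : j < j / 20000 * 20000 + 20000 := by omega
  exact okTree_spec (j / 20000 * 20000) 20000 (okT_all (j / 20000) hp) j h1 h2 h0 hj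

theorem rotsF_ok : ∀ r, r < 93 → rotsF r = rotL.getD r ([], 0, 0) := by
  have h : (List.range 93).all (fun r => rotsF r == rotL.getD r ([], 0, 0)) = true := by decide +kernel
  intro r hr
  have := forall_lt_of_all h r hr
  exact beq_iff_eq.mp this

theorem rotL_ok : (List.range 93).all (fun r =>
    rotOKL 4 subs.length 9 67108864 524288 262144 rels (rotL.getD r ([], 0, 0)) (rotIdx.getD r (0, 0))) = true := by
  decide +kernel

theorem subL_ok : (List.range subL.length).all (fun s =>
    subOKL 4 9 67108864 524288 262144 subs (subL.getD s ([], 0, [], 0)) (subIdx.getD s 0)) = true := by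
  decide +kernel

theorem subsF_ok : ∀ s, (subsF s).2.1 < 4 → s < subL.length ∧ subsF s = subL.getD s ([], 0, [], 0) := by
  intro s hs
  unfold subsF at hs ⊢
  by_cases h : s < subL.length
  · refine ⟨h, ?_⟩
    rw [List.getD_eq_getElem _ _ h, List.getD_eq_getElem _ _ h]
  · rw [List.getD_eq_default _ _ (not_lt.mp h)] at hs
    simp at hs

/-- the labelled table is closed, for any group with generators `gc` whose relator values are central. -/
theorem closedL {Γ : Type*} [Group Γ] {C : Type*} [CommGroup C] (gc : ℕ → Γ) (ι : C →* Γ) (gen : ℕ → C)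
    (hinv : ∀ l, l < 4 → gc (invF l) = (gc l)⁻¹)
    (hrels : ∀ ρ, ρ < rels.length → prodw gc (rels.getD ρ []) = ι (gen (subs.length + ρ)) ∧
      ∀ g : Γ, Commute (prodw gc (rels.getD ρ [])) g)
    (hsubs : ∀ s, s < subs.length → prodw gc (subs.getD s []) = ι (gen s)) :
    SemL 2217600 4 8388608 9 67108864 524288 262144 107839788275540627382901518731482520286916111834625111327934419042304 invF 93 rotsF subsF gc ι gen ∧
      ∀ i l, i < 2217600 → l < 4 → FactL gc ι gen 2217600 4194304 4503599627370496 9 67108864 524288 262144 ent parF pletF i l := by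
  have S : SemL 2217600 4 8388608 9 67108864 524288 262144 107839788275540627382901518731482520286916111834625111327934419042304 invF 93 rotsF subsF gc ι gen :=
    semL_of_data rels subs rotL rotIdx subL subIdx
      (by intro l hl; interval_cases l <;> decide) hinv (by norm_num) (by norm_num) (by norm_num)
      (by decide +kernel) (by norm_num) (by norm_num) rotsF_ok rotL_ok hrels subsF_ok subL_ok hsubs
  exact ⟨S, closed_of_okL S treeAll okAll⟩


theorem face0 {Γ : Type*} [Group Γ] {C : Type*} [CommGroup C] (gc : ℕ → Γ) (ι : C →* Γ) (gen : ℕ → C)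
    (hinv : ∀ l, l < 4 → gc (invF l) = (gc l)⁻¹)
    (hrels : ∀ ρ, ρ < rels.length → prodw gc (rels.getD ρ []) = ι (gen (subs.length + ρ)) ∧
      ∀ g : Γ, Commute (prodw gc (rels.getD ρ [])) g)
    (hsubs : ∀ s, s < subs.length → prodw gc (subs.getD s []) = ι (gen s)) :
    ι (gen (subs.length + 0)) = ι (dsem gen 262144 2 0 [524288, 524286, 524288, 524289, 524288, 524288, 524288, 524288, 524288]) := by
  obtain ⟨S, hcl⟩ := closedL gc ι gen hinv hrels hsubs
  have hw : [2, 2] = (rels.getD 0 []).rotate 0 := by decide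
  obtain ⟨h1, h2⟩ := hrels 0 (by decide)
  have hcen : ∀ g : Γ, Commute (prodw gc [2, 2]) g := by
    rw [hw, prodw_rotate_central h2]; exact h2
  have h3 := face_spec S hcl (w := [2, 2]) (b := 28684) (expected := 215679576551081254765803037462965040573832223971481677559525997543424) (by norm_num) (by decide) (by norm_num)
    [524288, 524286, 524288, 524289, 524288, 524288, 524288, 524288, 524288] (by decide) (by decide) (by decide +kernel) hcen okF0
  rw [← h1, ← prodw_rotate_central h2 0, ← hw]
  exact h3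


theorem face1 {Γ : Type*} [Group Γ] {C : Type*} [CommGroup C] (gc : ℕ → Γ) (ι : C →* Γ) (gen : ℕ → C)
    (hinv : ∀ l, l < 4 → gc (invF l) = (gc l)⁻¹)
    (hrels : ∀ ρ, ρ < rels.length → prodw gc (rels.getD ρ []) = ι (gen (subs.length + ρ)) ∧
      ∀ g : Γ, Commute (prodw gc (rels.getD ρ [])) g)
    (hsubs : ∀ s, s < subs.length → prodw gc (subs.getD s []) = ι (gen s)) :
    ι (gen (subs.length + 0)) = ι (dsem gen 262144 2 0 [524288, 524289, 524288, 524284, 524288, 524288, 524288, 524290, 524288]) := by
  obtain ⟨S, hcl⟩ := closedL gc ι gen hinv hrels hsubs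
  have hw : [2, 2] = (rels.getD 0 []).rotate 0 := by decide
  obtain ⟨h1, h2⟩ := hrels 0 (by decide)
  have hcen : ∀ g : Γ, Commute (prodw gc [2, 2]) g := by
    rw [hw, prodw_rotate_central h2]; exact h2
  have h3 := face_spec S hcl (w := [2, 2]) (b := 16355) (expected := 215679576551093514730129964573831907350049424933793352954217199304704) (by norm_num) (by decide) (by norm_num)
    [524288, 524289, 524288, 524284, 524288, 524288, 524288, 524290, 524288] (by decide) (by decide) (by decide +kernel) hcen okF1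
  rw [← h1, ← prodw_rotate_central h2 0, ← hw]
  exact h3


theorem face2 {Γ : Type*} [Group Γ] {C : Type*} [CommGroup C] (gc : ℕ → Γ) (ι : C →* Γ) (gen : ℕ → C)
    (hinv : ∀ l, l < 4 → gc (invF l) = (gc l)⁻¹)
    (hrels : ∀ ρ, ρ < rels.length → prodw gc (rels.getD ρ []) = ι (gen (subs.length + ρ)) ∧
      ∀ g : Γ, Commute (prodw gc (rels.getD ρ [])) g)
    (hsubs : ∀ s, s < subs.length → prodw gc (subs.getD s []) = ι (gen s)) :
    ι (gen (subs.length + 1)) = ι (dsem gen 262144 10 0 [2621440, 2621441, 2621439, 2621436, 2621440, 2621441, 2621442, 2621441, 2621440]) := by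
  obtain ⟨S, hcl⟩ := closedL gc ι gen hinv hrels hsubs
  have hw : [2, 0, 2, 0, 2, 0, 2, 0, 2, 0] = (rels.getD 1 []).rotate 1 := by decide
  obtain ⟨h1, h2⟩ := hrels 1 (by decide)
  have hcen : ∀ g : Γ, Commute (prodw gc [2, 0, 2, 0, 2, 0, 2, 0, 2, 0]) g := by
    rw [hw, prodw_rotate_central h2]; exact h2
  have h3 := face_spec S hcl (w := [2, 0, 2, 0, 2, 0, 2, 0, 2, 0]) (b := 42591) (expected := 1078397882755412403811361338576286128589728932832002797924788254277632) (by norm_num) (by decide) (by norm_num)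
    [2621440, 2621441, 2621439, 2621436, 2621440, 2621441, 2621442, 2621441, 2621440] (by decide) (by decide) (by decide +kernel) hcen okF2
  rw [← h1, ← prodw_rotate_central h2 1, ← hw]
  exact h3


theorem face3 {Γ : Type*} [Group Γ] {C : Type*} [CommGroup C] (gc : ℕ → Γ) (ι : C →* Γ) (gen : ℕ → C)
    (hinv : ∀ l, l < 4 → gc (invF l) = (gc l)⁻¹)
    (hrels : ∀ ρ, ρ < rels.length → prodw gc (rels.getD ρ []) = ι (gen (subs.length + ρ)) ∧
      ∀ g : Γ, Commute (prodw gc (rels.getD ρ [])) g)
    (hsubs : ∀ s, s < subs.length → prodw gc (subs.getD s []) = ι (gen s)) :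
    ι (gen (subs.length + 4)) = ι (dsem gen 262144 26 0 [6815744, 6815743, 6815740, 6815741, 6815744, 6815750, 6815744, 6815744, 6815744]) := by
  obtain ⟨S, hcl⟩ := closedL gc ι gen hinv hrels hsubs
  have hw : [0, 0, 0, 2, 0, 2, 0, 0, 0, 0, 2, 0, 2, 1, 1, 2, 1, 1, 1, 2, 1, 1, 2, 0, 2, 0] = (rels.getD 4 []).rotate 1 := by decide
  obtain ⟨h1, h2⟩ := hrels 4 (by decide)
  have hcen : ∀ g : Γ, Commute (prodw gc [0, 0, 0, 2, 0, 2, 0, 0, 0, 0, 2, 0, 2, 1, 1, 2, 1, 1, 1, 2, 1, 1, 2, 0, 2, 0]) g := by
    rw [hw, prodw_rotate_central h2]; exact h2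
  have h3 := face_spec S hcl (w := [0, 0, 0, 2, 0, 2, 0, 0, 0, 0, 2, 0, 2, 1, 1, 2, 1, 1, 1, 2, 1, 1, 2, 0, 2, 0]) (b := 641017) (expected := 2803834495164056311955439487026712304265921429916679502379286874554368) (by norm_num) (by decide) (by norm_num)
    [6815744, 6815743, 6815740, 6815741, 6815744, 6815750, 6815744, 6815744, 6815744] (by decide) (by decide) (by decide +kernel) hcen okF3
  rw [← h1, ← prodw_rotate_central h2 1, ← hw]
  exact h3


theorem face4 {Γ : Type*} [Group Γ] {C : Type*} [CommGroup C] (gc : ℕ → Γ) (ι : C →* Γ) (gen : ℕ → C)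
    (hinv : ∀ l, l < 4 → gc (invF l) = (gc l)⁻¹)
    (hrels : ∀ ρ, ρ < rels.length → prodw gc (rels.getD ρ []) = ι (gen (subs.length + ρ)) ∧
      ∀ g : Γ, Commute (prodw gc (rels.getD ρ [])) g)
    (hsubs : ∀ s, s < subs.length → prodw gc (subs.getD s []) = ι (gen s)) :
    ι (gen (subs.length + 2)) = ι (dsem gen 262144 12 0 [3145728, 3145731, 3145726, 3145732, 3145728, 3145724, 3145728, 3145728, 3145730]) := by
  obtain ⟨S, hcl⟩ := closedL gc ι gen hinv hrels hsubs
  have hw : [2, 1, 2, 0, 2, 1, 2, 0, 2, 1, 2, 0] = (rels.getD 2 []).rotate 1 := by decide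
  obtain ⟨h1, h2⟩ := hrels 2 (by decide)
  have hcen : ∀ g : Γ, Commute (prodw gc [2, 1, 2, 0, 2, 1, 2, 0, 2, 1, 2, 0]) g := by
    rw [hw, prodw_rotate_central h2]; exact h2
  have h3 := face_spec S hcl (w := [2, 1, 2, 0, 2, 1, 2, 0, 2, 1, 2, 0]) (b := 617516) (expected := 1294078282058766189197839302256937004247510819176945969613666532720640) (by norm_num) (by decide) (by norm_num)
    [3145728, 3145731, 3145726, 3145732, 3145728, 3145724, 3145728, 3145728, 3145730] (by decide) (by decide) (by decide +kernel) hcen okF4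
  rw [← h1, ← prodw_rotate_central h2 1, ← hw]
  exact h3


theorem face5 {Γ : Type*} [Group Γ] {C : Type*} [CommGroup C] (gc : ℕ → Γ) (ι : C →* Γ) (gen : ℕ → C)
    (hinv : ∀ l, l < 4 → gc (invF l) = (gc l)⁻¹)
    (hrels : ∀ ρ, ρ < rels.length → prodw gc (rels.getD ρ []) = ι (gen (subs.length + ρ)) ∧
      ∀ g : Γ, Commute (prodw gc (rels.getD ρ [])) g)
    (hsubs : ∀ s, s < subs.length → prodw gc (subs.getD s []) = ι (gen s)) :
    ι (gen (subs.length + 4)) = ι (dsem gen 262144 26 0 [6815744, 6815747, 6815744, 6815741, 6815744, 6815742, 6815748, 6815745, 6815744]) := by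
  obtain ⟨S, hcl⟩ := closedL gc ι gen hinv hrels hsubs
  have hw : [0, 0, 0, 2, 0, 2, 0, 0, 0, 0, 2, 0, 2, 1, 1, 2, 1, 1, 1, 2, 1, 1, 2, 0, 2, 0] = (rels.getD 4 []).rotate 1 := by decide
  obtain ⟨h1, h2⟩ := hrels 4 (by decide)
  have hcen : ∀ g : Γ, Commute (prodw gc [0, 0, 0, 2, 0, 2, 0, 0, 0, 0, 2, 0, 2, 1, 1, 2, 1, 1, 1, 2, 1, 1, 2, 0, 2, 0]) g := by
    rw [hw, prodw_rotate_central h2]; exact h2
  have h3 := face_spec S hcl (w := [0, 0, 0, 2, 0, 2, 0, 0, 0, 0, 2, 0, 2, 1, 1, 2, 1, 1, 1, 2, 1, 1, 2, 0, 2, 0]) (b := 286219) (expected := 2803834495164062441937968325980589427642110921530765078667271787249664) (by norm_num) (by decide) (by norm_num)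
    [6815744, 6815747, 6815744, 6815741, 6815744, 6815742, 6815748, 6815745, 6815744] (by decide) (by decide) (by decide +kernel) hcen okF5
  rw [← h1, ← prodw_rotate_central h2 1, ← hw]
  exact h3


theorem face6 {Γ : Type*} [Group Γ] {C : Type*} [CommGroup C] (gc : ℕ → Γ) (ι : C →* Γ) (gen : ℕ → C)
    (hinv : ∀ l, l < 4 → gc (invF l) = (gc l)⁻¹)
    (hrels : ∀ ρ, ρ < rels.length → prodw gc (rels.getD ρ []) = ι (gen (subs.length + ρ)) ∧
      ∀ g : Γ, Commute (prodw gc (rels.getD ρ [])) g)
    (hsubs : ∀ s, s < subs.length → prodw gc (subs.getD s []) = ι (gen s)) :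
    ι (gen (subs.length + 4)) = ι (dsem gen 262144 26 0 [6815744, 6815746, 6815744, 6815747, 6815746, 6815743, 6815742, 6815746, 6815742]) := by
  obtain ⟨S, hcl⟩ := closedL gc ι gen hinv hrels hsubs
  have hw : [0, 0, 0, 2, 0, 2, 0, 0, 0, 0, 2, 0, 2, 1, 1, 2, 1, 1, 1, 2, 1, 1, 2, 0, 2, 0] = (rels.getD 4 []).rotate 1 := by decide
  obtain ⟨h1, h2⟩ := hrels 4 (by decide)
  have hcen : ∀ g : Γ, Commute (prodw gc [0, 0, 0, 2, 0, 2, 0, 0, 0, 0, 2, 0, 2, 1, 1, 2, 1, 1, 1, 2, 1, 1, 2, 0, 2, 0]) g := by
    rw [hw, prodw_rotate_central h2]; exact h2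
  have h3 := face_spec S hcl (w := [0, 0, 0, 2, 0, 2, 0, 0, 0, 0, 2, 0, 2, 1, 1, 2, 1, 1, 1, 2, 1, 1, 2, 0, 2, 0]) (b := 216436) (expected := 2803833672411789911316562648938793623268889224461843699401023143018496) (by norm_num) (by decide) (by norm_num)
    [6815744, 6815746, 6815744, 6815747, 6815746, 6815743, 6815742, 6815746, 6815742] (by decide) (by decide) (by decide +kernel) hcen okF6
  rw [← h1, ← prodw_rotate_central h2 1, ← hw]
  exact h3


theorem face7 {Γ : Type*} [Group Γ] {C : Type*} [CommGroup C] (gc : ℕ → Γ) (ι : C →* Γ) (gen : ℕ → C)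
    (hinv : ∀ l, l < 4 → gc (invF l) = (gc l)⁻¹)
    (hrels : ∀ ρ, ρ < rels.length → prodw gc (rels.getD ρ []) = ι (gen (subs.length + ρ)) ∧
      ∀ g : Γ, Commute (prodw gc (rels.getD ρ [])) g)
    (hsubs : ∀ s, s < subs.length → prodw gc (subs.getD s []) = ι (gen s)) :
    ι (gen (subs.length + 4)) = ι (dsem gen 262144 26 0 [6815744, 6815744, 6815754, 6815742, 6815743, 6815744, 6815744, 6815743, 6815742]) := by
  obtain ⟨S, hcl⟩ := closedL gc ι gen hinv hrels hsubs
  have hw : [0, 0, 0, 2, 0, 2, 0, 0, 0, 0, 2, 0, 2, 1, 1, 2, 1, 1, 1, 2, 1, 1, 2, 0, 2, 0] = (rels.getD 4 []).rotate 1 := by decide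
  obtain ⟨h1, h2⟩ := hrels 4 (by decide)
  have hcen : ∀ g : Γ, Commute (prodw gc [0, 0, 0, 2, 0, 2, 0, 0, 0, 0, 2, 0, 2, 1, 1, 2, 1, 1, 1, 2, 1, 1, 2, 0, 2, 0]) g := by
    rw [hw, prodw_rotate_central h2]; exact h2
  have h3 := face_spec S hcl (w := [0, 0, 0, 2, 0, 2, 0, 0, 0, 0, 2, 0, 2, 1, 1, 2, 1, 1, 1, 2, 1, 1, 2, 0, 2, 0]) (b := 19091) (expected := 2803833672411771521370254945978520815376175404887471067584608921452544) (by norm_num) (by decide) (by norm_num)
    [6815744, 6815744, 6815754, 6815742, 6815743, 6815744, 6815744, 6815743, 6815742] (by decide) (by decide) (by decide +kernel) hcen okF7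
  rw [← h1, ← prodw_rotate_central h2 1, ← hw]
  exact h3

end Cfsg.Agent.Helper11.SchHS
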