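import Mathlib
import Cfsg.Agent.Helper11.SchHS.Facts
import Cfsg.Agent.Helper19.Schur.Cover

/-! Instance of helper19's labelled Todd–Coxeter pipeline (upper bound: relation lattice of the
central relator symbols); generated by helper11's `emit_hs.py`. -/

set_option autoImplicit false
set_option linter.all false
set_option maxRecDepth 100000

namespace Cfsg.Agent.Helper11.SchHS

open Cfsg Cfsg.Agent.Helper19.TCS Cfsg.Agent.Helper19.TCL
  Cfsg.Agent.Helper19.Schur

universe u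

theorem invF_eq : ∀ l, l < 4 → invF l = inv4 l := by
  intro l hl
  interval_cases l <;> rfl

theorem prodw_replicate' {Δ : Type*} [Group Δ] (gc : ℕ → Δ) (l n : ℕ) :
    prodw gc (List.replicate n l) = gc l ^ n := by
  induction n with
  | zero => simp [prodw]
  | succ n ih => rw [List.replicate_succ, prodw, ih, pow_succ]

theorem hcen_of_trivial {Δ : Type u} [Group Δ] (a b : Δ)
    (h : ∀ w ∈ rels, prodw (gc2 a b) w = 1) :
    ∀ ρ g, Commute (prodw (gc2 a b) (rels.getD ρ [])) g := by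
  intro ρ g
  have : prodw (gc2 a b) (rels.getD ρ []) = 1 :=
    forall_getD_of_forall_mem (fun w => prodw (gc2 a b) w = 1) rels [] h rfl ρ
  rw [this]
  exact Commute.one_left g

theorem closedL' {Δ : Type u} [Group Δ] (a b : Δ)
    (hcen : ∀ ρ g, Commute (prodw (gc2 a b) (rels.getD ρ [])) g) :
    SemL 2217600 4 8388608 9 67108864 524288 262144 107839788275540627382901518731482520286916111834625111327934419042304 invF 93 rotsF subsF
        (gc2 a b) (iotaC (gfam a b rels 9) (gfam_comm a b rels 9 hcen)) (genC 9) ∧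
      ∀ i l, i < 2217600 → l < 4 →
        FactL (gc2 a b) (iotaC (gfam a b rels 9) (gfam_comm a b rels 9 hcen)) (genC 9)
          2217600 4194304 4503599627370496 9 67108864 524288 262144 ent parF pletF i l :=
  closedL (gc2 a b) _ (genC 9) (gc2_invF a b invF invF_eq)
    (bridge_rels a b rels 9 (by decide) hcen) (bridge_subs a b rels 9 (by norm_num) hcen)

theorem hT1 (Δ : Type u) [Group Δ] (a b : Δ)
    (hgen : Subgroup.closure {a, b} = (⊤ : Subgroup Δ))
    (hrel : ∀ w ∈ rels, prodw (gc2 a b) w = 1) : Finite Δ ∧ Nat.card Δ ≤ 44352000 := by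
  have hcen := hcen_of_trivial a b hrel
  obtain ⟨S, hcl⟩ := closedL' a b hcen
  have ha : a ^ 20 = 1 := by
    have h1 := hrel (List.replicate 20 0) (by decide)
    rw [prodw_replicate'] at h1
    exact h1
  have hι : ∀ c, iotaC (gfam a b rels 9) (gfam_comm a b rels 9 hcen) c ∈ Subgroup.zpowers a := by
    intro c
    apply iotaC_mem
    intro i
    unfold gfam
    split_ifs with h
    · exact Subgroup.mem_zpowers a
    · have : prodw (gc2 a b) (rels.getD ((i : ℕ) - 1) []) = 1 :=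
        forall_getD_of_forall_mem (fun w => prodw (gc2 a b) w = 1) rels [] hrel rfl _
      rw [this]
      exact one_mem _
  have := card_le_of_factL a b hgen _ (genC 9) S hcl 20 (by norm_num) ha hι
  exact this

/-- the relations among the relator symbols found by the faces. -/
def lam : Fin 8 → Fin 9 → ℤ :=
  ![![0, -3, 0, 1, 0, 0, 0, 0, 0],
    ![0, 0, 0, -4, 0, 0, 0, 2, 0],
    ![0, 1, -2, -4, 0, 1, 2, 1, 0],
    ![0, -1, -4, -3, 0, 5, 0, 0, 0],
    ![0, 3, -2, 3, 0, -4, 0, 0, 2],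
    ![0, 3, 0, -3, 0, -3, 4, 1, 0],
    ![0, 2, 0, 3, 2, -2, -2, 2, -2],
    ![0, 0, 10, -2, -1, -1, 0, -1, -2]]

theorem hT2 (Δ : Type u) [Group Δ] (a b : Δ)
    (hcen : ∀ ρ g, Commute (prodw (gc2 a b) (rels.getD ρ [])) g) (j : Fin 8) :
    Psi (gfam a b rels 9) (gfam_comm a b rels 9 hcen) (lam j) = 1 := by
  have hinv := gc2_invF a b invF invF_eq
  have hrels := bridge_rels a b rels 9 (by decide) hcen
  have hsubs := bridge_subs a b rels 9 (by norm_num) hcen
  fin_cases j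
  · exact psi_eq_one_of_face _ _ 262144 2 [524288, 524286, 524288, 524289, 524288, 524288, 524288, 524288, 524288] rfl
      ⟨1, by norm_num⟩ _ (face0 (gc2 a b) _ (genC 9) hinv hrels hsubs) (by decide)
  · exact psi_eq_one_of_face _ _ 262144 2 [524288, 524289, 524288, 524284, 524288, 524288, 524288, 524290, 524288] rfl
      ⟨1, by norm_num⟩ _ (face1 (gc2 a b) _ (genC 9) hinv hrels hsubs) (by decide)
  · exact psi_eq_one_of_face _ _ 262144 10 [2621440, 2621441, 2621439, 2621436, 2621440, 2621441, 2621442, 2621441, 2621440] rfl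
      ⟨2, by norm_num⟩ _ (face2 (gc2 a b) _ (genC 9) hinv hrels hsubs) (by decide)
  · exact psi_eq_one_of_face _ _ 262144 26 [6815744, 6815743, 6815740, 6815741, 6815744, 6815750, 6815744, 6815744, 6815744] rfl
      ⟨5, by norm_num⟩ _ (face3 (gc2 a b) _ (genC 9) hinv hrels hsubs) (by decide)
  · exact psi_eq_one_of_face _ _ 262144 12 [3145728, 3145731, 3145726, 3145732, 3145728, 3145724, 3145728, 3145728, 3145730] rfl
      ⟨3, by norm_num⟩ _ (face4 (gc2 a b) _ (genC 9) hinv hrels hsubs) (by decide)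
  · exact psi_eq_one_of_face _ _ 262144 26 [6815744, 6815747, 6815744, 6815741, 6815744, 6815742, 6815748, 6815745, 6815744] rfl
      ⟨5, by norm_num⟩ _ (face5 (gc2 a b) _ (genC 9) hinv hrels hsubs) (by decide)
  · exact psi_eq_one_of_face _ _ 262144 26 [6815744, 6815746, 6815744, 6815747, 6815746, 6815743, 6815742, 6815746, 6815742] rfl
      ⟨5, by norm_num⟩ _ (face6 (gc2 a b) _ (genC 9) hinv hrels hsubs) (by decide)
  · exact psi_eq_one_of_face _ _ 262144 26 [6815744, 6815744, 6815754, 6815742, 6815743, 6815744, 6815744, 6815743, 6815742] rfl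
      ⟨5, by norm_num⟩ _ (face7 (gc2 a b) _ (genC 9) hinv hrels hsubs) (by decide)

/-! ### The lattice data -/

def e1 : Fin 9 → ℤ := ![0, 0, 5, 0, 20, 4, 3, 0, 13]
def e2 : Fin 9 → ℤ := ![0, 2, 5, 6, 0, 8, 6, 12, 9]
def c1 : Fin 9 → ℤ := ![0, -70, -31, 0, 0, 44, -11, 0, 1]
def c2 : Fin 9 → ℤ := ![0, 348, 156, 0, 0, -220, 55, 0, -5]
def g0 : Fin 9 → ℤ := ![0, 187, 85, 0, 0, -119, 30, 0, -3]

theorem sum_univ_n9 {M : Type*} [AddCommMonoid M] (f : Fin 9 → M) :
    ∑ i, f i = f 0 + f 1 + f 2 + f 3 + f 4 + f 5 + f 6 + f 7 + f 8 := by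
  rw [Fin.sum_univ_castSucc, Fin.sum_univ_eight]
  rfl

theorem he1 : ∀ c : Fin 9, e1 c = if (c : ℕ) = 0 then 0 else es0 (rels.getD ((c : ℕ) - 1) []) := by
  decide

theorem he2 : ∀ c : Fin 9, e2 c = if (c : ℕ) = 0 then 0 else es1 (rels.getD ((c : ℕ) - 1) []) := by
  decide

theorem Efun_eq (e v : Fin 9 → ℤ) : Efun e v =
    v 0 * e 0 + v 1 * e 1 + v 2 * e 2 + v 3 * e 3 + v 4 * e 4 + v 5 * e 5 + v 6 * e 6 + v 7 * e 7 + v 8 * e 8 := by
  unfold Efun
  rw [sum_univ_n9]

theorem hc1 : (∀ c : Fin 9, (c : ℕ) = 0 → c1 c = 0) ∧ Efun e1 c1 = 1 ∧ Efun e2 c1 = 0 := by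
  refine ⟨by decide, ?_, ?_⟩ <;> rw [Efun_eq] <;> decide

theorem hc2 : (∀ c : Fin 9, (c : ℕ) = 0 → c2 c = 0) ∧ Efun e1 c2 = 0 ∧ Efun e2 c2 = 1 := by
  refine ⟨by decide, ?_, ?_⟩ <;> rw [Efun_eq] <;> decide

theorem hg0 : ∀ c : Fin 9, (c : ℕ) = 0 → g0 c = 0 := by decide

theorem hL1 : ∀ v : Fin 9 → ℤ, (∀ c : Fin 9, (c : ℕ) = 0 → v c = 0) → Efun e1 v = 0 →
    Efun e2 v = 0 → ∃ (cf : Fin 8 → ℤ) (t : ℤ), v = ∑ j, cf j • lam j + t • g0 := by
  intro v h0 h1 h2
  have h0' : v 0 = 0 := h0 0 rfl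
  rw [Efun_eq] at h1 h2
  simp only [e1, e2, Matrix.cons_val_zero, Matrix.cons_val_one, Matrix.cons_val] at h1 h2
  refine ⟨![(51) * v 1 + (-13) * v 2 + (154) * v 3 + (325) * v 4 + (112) * v 5 + (109) * v 6 + (209) * v 7 + (-542) * v 8,
      0,
      (15) * v 1 + (-5) * v 2 + (45) * v 3 + (98) * v 4 + (32) * v 5 + (31) * v 6 + (62) * v 7 + (-166) * v 8,
      (14) * v 1 + (-3) * v 2 + (42) * v 3 + (82) * v 4 + (31) * v 5 + (30) * v 6 + (57) * v 7 + (-142) * v 8,
      (2) * v 1 + (3) * v 2 + (6) * v 3 + (18) * v 4 + (7) * v 5 + (6) * v 6 + (9) * v 7 + (-8) * v 8,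
      (-15) * v 1 + (5) * v 2 + (-45) * v 3 + (-99) * v 4 + (-32) * v 5 + (-31) * v 6 + (-61) * v 7 + (166) * v 8,
      0,
      (-1) * v 4],
    (2) * v 1 + (2) * v 2 + (6) * v 3 + (6) * v 4 + (6) * v 5 + (5) * v 6 + (10) * v 7 + (-7) * v 8, ?_⟩
  funext c
  rw [Fin.sum_univ_eight]
  fin_cases c
  · simp [lam, g0] <;> linear_combination (0) * h1 + (0) * h2 + (1) * h0'
  · simp [lam, g0] <;> linear_combination (4) * h1 + (-91) * h2 + (0) * h0'
  · simp [lam, g0] <;> linear_combination (3) * h1 + (-40) * h2 + (0) * h0'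
  · simp [lam, g0] <;> linear_combination (-2) * h1 + (0) * h2 + (0) * h0'
  · simp [lam, g0] <;> linear_combination (0) * h1 + (0) * h2 + (0) * h0'
  · simp [lam, g0] <;> linear_combination (-1) * h1 + (58) * h2 + (0) * h0'
  · simp [lam, g0] <;> linear_combination (1) * h1 + (-15) * h2 + (0) * h0'
  · simp [lam, g0] <;> linear_combination (0) * h1 + (0) * h2 + (0) * h0'
  · simp [lam, g0] <;> linear_combination (-1) * h1 + (1) * h2 + (0) * h0'

theorem hL2 : ∃ cf : Fin 8 → ℤ, ((2 : ℕ) : ℤ) • g0 = ∑ j, cf j • lam j := by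
  refine ⟨![-96, 0, -31, -22, 0, 31, 1, 2], ?_⟩
  funext c
  rw [Fin.sum_univ_eight]
  fin_cases c <;> simp [lam, g0]

end Cfsg.Agent.Helper11.SchHS
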