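import Mathlib
import Cfsg.Agent.Helper11.SchHS.Conc
import Cfsg.Agent.Helper11.SchHS.Inst
import Cfsg.Agent.Helper11.SchHSM.MFacts
import Cfsg.Agent.Helper19.Schur.Table
import Cfsg.Agent.Helper22.HSIso2

/-! The Schur multiplier of the Higman–Sims group is cyclic of order two: the final statement.
(modelled on helper19's `SchJ2.Final`; the upper bound is a labelled coset enumeration over the
cyclic subgroup of order 20 with 2217600 cosets, the lower bound a `ℤ/2`-labelled table on the 352
cosets of `U₃(5)`, over which the double cover splits.) -/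

set_option autoImplicit false
set_option linter.all false
set_option maxRecDepth 100000
set_option maxHeartbeats 0

namespace Cfsg.Agent.Helper11.SchHS

open Cfsg Cfsg.Agent.Helper22.PermPack Cfsg.Agent.Helper22.HSK Cfsg.Agent.Helper19.TCS Cfsg.Agent.Helper19.TCL
  Cfsg.Agent.Helper19.TCM Cfsg.Agent.Helper19.Schur

/-! ### The model data -/

def c1m : Fin 9 → ℤ := ![0, -70, -31, 0, 0, 44, -11, 0, 1]
def c2m : Fin 9 → ℤ := ![0, 348, 156, 0, 0, -220, 55, 0, -5]

theorem relsM_eq : Cfsg.Agent.Helper11.SchHSM.relsM = rels := by decide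

theorem schur_K : Cfsg.HasCyclicSchurMultiplier ↥K 2 := by
  have hcard : Nat.card ↥K = 44352000 := card_K
  haveI : Finite ↥K := Nat.finite_of_card_ne_zero (by rw [hcard]; norm_num)
  have hT1' : ∀ (Δ : Type) [Group Δ] (a b : Δ), Subgroup.closure {a, b} = (⊤ : Subgroup Δ) →
      (∀ w ∈ rels, prodw (gc2 a b) w = 1) → Finite Δ ∧ Nat.card Δ ≤ Nat.card ↥K := by
    intro Δ _ a b h1 h2
    rw [hcard]
    exact hT1 Δ a b h1 h2
  have hM := Cfsg.Agent.Helper11.SchHSM.relsM_ok
  rw [relsM_eq] at hM
  refine ⟨?_, ?_⟩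
  · exact exists_stem_of_table xG yG G_closure rels hT1' hrelG Cfsg.Agent.Helper11.SchHSM.modelOK
      (by norm_num) Cfsg.Agent.Helper11.SchHSM.phisM
      (by decide) (by decide) hM 9 e1 e2 c1m c2m he1 he2
      (by constructor <;> rw [Efun_eq] <;> decide) (by constructor <;> rw [Efun_eq] <;> decide)
      (by rw [sum_univ_n9]; decide) (by rw [sum_univ_n9]; decide) [5] (by decide)
  · exact exists_surjective_of_stem xG yG G_closure rels 9 (by decide) hrelG hT1' 8 lam hT2
      e1 e2 he1 he2 c1 c2 g0 2 hc1 hc2 hg0 hL1 hL2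

/-- the Schur multiplier of the Higman–Sims group is cyclic of order two. -/
theorem schur_HS : Cfsg.HasCyclicSchurMultiplier ↥Cfsg.Spor.HS 2 := by
  obtain ⟨e⟩ := Cfsg.Agent.Helper22.HSIso.nonempty_equiv
  exact hasSchurMultiplier_of_mulEquiv (e.trans Cfsg.Agent.Helper22.HSIso.equivK).symm schur_K

end Cfsg.Agent.Helper11.SchHS
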